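import Groth.Agent.DimFormula.Stalk
import Groth.Agent.FlatLoc6.EquidimCat
import Groth.Agent.H23.StalkIdeal
import Mathlib.RingTheory.Ideal.KrullsHeightTheorem

/-!
# Proper intersection with an effective Cartier divisor
-/

set_option autoImplicit false
set_option linter.style.haveILetI false
set_option backward.isDefEq.respectTransparency.types false

universe u

open CategoryTheory AlgebraicGeometry TopologicalSpace Order IsLocalRing Topology

namespace Groth.Agent.ProperInter

open Groth.Agent.H23.StalkIdeal Groth.Agent.DimFormula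

variable {X : Scheme.{u}}

theorem ringKrullDim_stalk_fromSpecStalk (x : X) (a : PrimeSpectrum (X.presheaf.stalk x)) :
    ringKrullDim (X.presheaf.stalk (X.fromSpecStalk x a)) = (a.asIdeal.height : WithBot ℕ∞) := by
  let R : Type u := X.presheaf.stalk x
  let c : PrimeSpectrum R → X := X.fromSpecStalk x
  have hc : IsEmbedding c := (X.fromSpecStalk x).isEmbedding
  have key : ∀ b b' : PrimeSpectrum R, b ≤ b' ↔ c b ⤳ c b' := fun b b' =>
    (PrimeSpectrum.le_iff_specializes b b').trans hc.isInducing.specializes_iff.symm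
  rw [ringKrullDim_stalk_eq_coheight, a.height_eq_orderHeight, coheight_eq_krullDim_Ici, height_eq_krullDim_Iic]
  let F : ↥(Set.Iic a) → ↥(Set.Ici (c a : X)) := fun b => ⟨c b.1, (key b.1 a).1 b.2⟩
  have hF : Function.Bijective F := by
    refine ⟨fun b b' h => Subtype.ext (hc.injective (congrArg (fun t : ↥(Set.Ici (c a : X)) => t.1) h :)), fun ⟨z, hz⟩ => ?_⟩
    obtain ⟨b, hb⟩ := fromSpecStalk_range_of_specializes (hz.trans (fromSpecStalk_specializes x a))
    exact ⟨⟨b, (key b a).2 (by rw [show c b = z from hb]; exact hz)⟩, Subtype.ext hb⟩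
  rw [← Order.krullDim_orderDual (α := ↥(Set.Ici (c a : X)))]
  refine (Order.krullDim_eq_of_orderIso
    ⟨(Equiv.ofBijective F hF).trans OrderDual.toDual, fun {b b'} => ?_⟩).symm
  show c b.1 ⤳ c b'.1 ↔ b ≤ b'
  exact (key b.1 b'.1).symm

theorem mem_support_iff_sI (I : X.IdealSheafData) (x : X) (a : PrimeSpectrum (X.presheaf.stalk x)) :
    X.fromSpecStalk x a ∈ (I.support : Set X) ↔ sI I x ≤ a.asIdeal := by
  let J := I.comap (X.fromSpecStalk x)
  let a' : ↥(Spec (X.presheaf.stalk x)) := a
  show X.fromSpecStalk x a' ∈ _ ↔ _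
  have h1 : X.fromSpecStalk x a ∈ (I.support : Set X) ↔
      a' ∈ (J.support : Set ↥(Spec (X.presheaf.stalk x))) := by
    show _ ↔ a' ∈ ((I.comap (X.fromSpecStalk x)).support : Set _)
    rw [Scheme.IdealSheafData.support_comap]
    exact Iff.rfl
  rw [h1]
  have h2 : a' ∈ (J.support : Set ↥(Spec (X.presheaf.stalk x))) ↔
      a' ∈ (Spec (X.presheaf.stalk x)).zeroLocus (U := ⊤) (J.ideal ⟨⊤, isAffineOpen_top _⟩ : Set _) := by
    have := J.coe_support_inter ⟨⊤, isAffineOpen_top _⟩
    simp only [Opens.coe_top, Set.inter_univ] at this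
    rw [this]
  rw [h2, Scheme.mem_zeroLocus_iff, sI, tI, Ideal.map_le_iff_le_comap]
  simp only [SetLike.mem_coe, basicOpen_eq_of_affine']
  exact ⟨fun h f hf => not_not.1 (h f hf), fun h f hf hmem => hmem (h hf)⟩

theorem mem_support_iff_sI_self (I : X.IdealSheafData) (x : X) :
    x ∈ (I.support : Set X) ↔ sI I x ≤ maximalIdeal (X.presheaf.stalk x) := by
  have := mem_support_iff_sI I x (closedPoint _)
  rwa [Scheme.fromSpecStalk_closedPoint] at this

variable [IsLocallyNoetherian X] {I : X.IdealSheafData} (hI : BlowUp.IsEffCartierIdeal I)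

include hI in
theorem one_le_dim_of_mem_support {x : X} (hx : x ∈ (I.support : Set X)) :
    1 ≤ ringKrullDim (X.presheaf.stalk x) := by
  obtain ⟨g, hg, hgI⟩ := exists_gen hI x
  rw [mem_support_iff_sI_self, hgI, Ideal.span_singleton_le_iff_mem] at hx
  obtain ⟨q, hq, hqle⟩ := Ideal.exists_minimalPrimes_le (J := maximalIdeal (X.presheaf.stalk x)) bot_le
  haveI := hq.1.1
  have hlt : q < maximalIdeal (X.presheaf.stalk x) := lt_of_le_of_ne hqle fun e =>
    Set.disjoint_left.1 (Ideal.disjoint_nonZeroDivisors_of_mem_minimalPrimes hq) (e ▸ hx) hg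
  rw [← maximalIdeal_height_eq_ringKrullDim]
  have := Ideal.height_add_one_le_of_lt_of_isPrime hlt
  exact_mod_cast le_add_self.trans this

include hI in
theorem dim_eq_one_of_maximal {x : X} (hx : x ∈ (I.support : Set X))
    (hmax : ∀ z ∈ (I.support : Set X), z ⤳ x → z = x) : ringKrullDim (X.presheaf.stalk x) = 1 := by
  refine le_antisymm ?_ (one_le_dim_of_mem_support hI hx)
  obtain ⟨g, hg, hgI⟩ := exists_gen hI x
  have hxm := (mem_support_iff_sI_self I x).1 hx
  rw [hgI] at hxm
  have hmin : maximalIdeal (X.presheaf.stalk x) ∈ (Ideal.span {g}).minimalPrimes := by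
    refine ⟨⟨(maximalIdeal.isMaximal _).isPrime, hxm⟩, fun q hq hqle => ?_⟩
    have h := hmax _ ((mem_support_iff_sI I x ⟨q, hq.1⟩).2 (hgI.trans_le hq.2)) (fromSpecStalk_specializes x _)
    have h' : (⟨q, hq.1⟩ : PrimeSpectrum (X.presheaf.stalk x)) = closedPoint _ :=
      (X.fromSpecStalk x).isEmbedding.injective (by rw [Scheme.fromSpecStalk_closedPoint]; exact h)
    exact ge_of_eq (congrArg PrimeSpectrum.asIdeal h')
  haveI : (Ideal.span {g}).IsPrincipal := ⟨⟨g, rfl⟩⟩
  rw [← maximalIdeal_height_eq_ringKrullDim]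
  exact_mod_cast Ideal.height_le_one_of_isPrincipal_of_mem_minimalPrimes (Ideal.span {g}) _ hmin

theorem isEquidim_stalk [IrreducibleSpace X] (x : X) : EGA4.IsEquidim (X.presheaf.stalk x) := by
  intro p hp
  haveI := hp.1.1
  have huniq : ∀ q ∈ minimalPrimes (X.presheaf.stalk x), q = p := fun q hq => by
    haveI := hq.1.1
    have h : ∀ (a : PrimeSpectrum (X.presheaf.stalk x)), a.asIdeal ∈ minimalPrimes (X.presheaf.stalk x) →
        X.fromSpecStalk x a = genericPoint X := fun a ha =>
      (maximal_of_minimalPrime x ha _ (genericPoint_specializes _)).symm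
    exact congrArg PrimeSpectrum.asIdeal ((X.fromSpecStalk x).isEmbedding.injective
      ((h ⟨q, inferInstance⟩ hq).trans (h ⟨p, inferInstance⟩ hp).symm))
  refine le_antisymm (ringKrullDim_quotient_le p) ?_
  have hnil : p ≤ nilradical (X.presheaf.stalk x) := by
    rw [nilradical, Ideal.zero_eq_bot, ← Ideal.sInf_minimalPrimes]
    exact le_sInf fun q hq => (huniq q hq).ge
  rw [ringKrullDim_quotient]
  refine Order.krullDim_le_of_strictMono (fun q : PrimeSpectrum (X.presheaf.stalk x) => ⟨q, ?_⟩) fun _ _ h => h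
  exact fun y hy => nilradical_le_prime q.asIdeal (hnil hy)

variable {Z : Scheme.{u}}

include hI in
/-- An effective Cartier divisor meets a closed integral subscheme not contained in it properly. -/
theorem dim_eq_add [IrreducibleSpace X] (hcat : ∀ x : X, CAlg.IsCatenary (X.presheaf.stalk x))
    (i : Z ⟶ X) [IsClosedImmersion i] [IsIntegral Z] (hc : BlowUp.IsEffCartierIdeal (I.comap i))
    (ζ : X) (hζ : ζ ∈ (I.support : Set X) ∩ Set.range i.base)
    (hmax : ∀ ζ' : X, ζ' ∈ (I.support : Set X) ∩ Set.range i.base → ζ' ⤳ ζ → ζ' = ζ) :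
    ringKrullDim (X.presheaf.stalk ζ) =
      (⨅ y : (I.support : Set X), ringKrullDim (X.presheaf.stalk y.1)) +
        ringKrullDim (X.presheaf.stalk (i (genericPoint Z))) := by
  obtain ⟨hζI, z, rfl⟩ := hζ
  haveI : IsLocallyNoetherian Z := LocallyOfFiniteType.isLocallyNoetherian i
  -- codimension of the divisor
  have hinf : (⨅ y : (I.support : Set X), ringKrullDim (X.presheaf.stalk y.1)) = 1 := by
    refine le_antisymm ?_ (le_iInf fun y => one_le_dim_of_mem_support hI y.2)
    obtain ⟨q, hq, -⟩ := Ideal.exists_minimalPrimes_le ((mem_support_iff_sI_self I _).1 hζI)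
    haveI := hq.1.1
    let y := X.fromSpecStalk (i z) ⟨q, inferInstance⟩
    have hy : y ∈ (I.support : Set X) := (mem_support_iff_sI I _ _).2 hq.1.2
    refine iInf_le_of_le ⟨y, hy⟩ ((dim_eq_one_of_maximal hI hy fun w hw hwy => ?_).le)
    obtain ⟨b, rfl⟩ := fromSpecStalk_range_of_specializes (hwy.trans (fromSpecStalk_specializes (i z) _))
    refine congrArg (X.fromSpecStalk (i z)) (PrimeSpectrum.ext (le_antisymm ?_ ?_))
    · exact (PrimeSpectrum.le_iff_specializes b ⟨q, inferInstance⟩).2
        ((X.fromSpecStalk (i z)).isEmbedding.isInducing.specializes_iff.1 hwy)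
    · exact hq.2 ⟨b.2, (mem_support_iff_sI I _ _).1 hw⟩ ((PrimeSpectrum.le_iff_specializes b ⟨q, inferInstance⟩).2
        ((X.fromSpecStalk (i z)).isEmbedding.isInducing.specializes_iff.1 hwy))
  -- dimension of the intersection in the subscheme
  have hmem : ∀ w : Z, w ∈ ((I.comap i).support : Set Z) ↔ i w ∈ (I.support : Set X) := fun w => by
    rw [Scheme.IdealSheafData.support_comap]
    exact Iff.rfl
  have hone : ringKrullDim (Z.presheaf.stalk z) = 1 :=
    dim_eq_one_of_maximal hc ((hmem z).2 hζI) fun w hw hwz =>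
      i.isClosedEmbedding.injective (hmax (i w) ⟨(hmem w).1 hw, w, rfl⟩ (hwz.map i.continuous))
  let P : PrimeSpectrum (X.presheaf.stalk (i z)) := PrimeSpectrum.comap (i.stalkMap z).hom ⟨⊥, Ideal.isPrime_bot⟩
  have hPξ : X.fromSpecStalk (i z) P = i (genericPoint Z) := by
    rw [fromSpecStalk_comm]
    congr 1
    refine (maximal_of_minimalPrime z (a := ⟨⊥, Ideal.isPrime_bot⟩) ?_ _ (genericPoint_specializes _)).symm
    rw [IsDomain.minimalPrimes_eq_singleton_bot]
    rfl
  have hdimP : ringKrullDim (X.presheaf.stalk (i z) ⧸ P.asIdeal) = 1 := by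
    rw [← hone]
    exact ringKrullDim_eq_of_ringEquiv ((Ideal.quotEquivOfEq (RingHom.ker_eq_comap_bot _).symm).trans
      (RingHom.quotientKerEquivOfSurjective (i.stalkMap_surjective z)))
  have hfinal := FlatLoc6.height_add_ringKrullDim_quotient (isEquidim_stalk (i z)) (hcat (i z)) P.asIdeal
  rw [hdimP] at hfinal
  rw [hinf, ← hPξ, ringKrullDim_stalk_fromSpecStalk, ← hfinal, add_comm]

end Groth.Agent.ProperInter
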